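import Cfsg.Agent.Lib.CG.Glue2

set_option autoImplicit false
set_option maxRecDepth 100000
set_option Elab.async false

namespace Cfsg.Agent.CG.A7

noncomputable def t0 : ℕ := 0x302820181008
noncomputable def t1 : ℕ := 0x28201810080030
noncomputable def t2 : ℕ := 0x30282018001008
noncomputable def t3 : ℕ := 0x30282018080010
noncomputable def t4 : ℕ := 0x30082820181000
noncomputable def t5 : ℕ := 0x30201810082800
noncomputable def t6 : ℕ := 0x18100028082030
noncomputable def t7 : ℕ := 0x180830281020
noncomputable def t8 : ℕ := 0x8201810300028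
noncomputable def t9 : ℕ := 0x10002820183008
noncomputable def t10 : ℕ := 0x20280830181000
noncomputable def t11 : ℕ := 0x18283010082000
noncomputable def t12 : ℕ := 0x10202808183000
noncomputable def t13 : ℕ := 0x8202810301800
noncomputable def t14 : ℕ := 0x18083028102000
noncomputable def t15 : ℕ := 0x20180830102800
noncomputable def t16 : ℕ := 0x20281830100800
noncomputable def t17 : ℕ := 0x18283020100800
noncomputable def t18 : ℕ := 0x28203018100800
noncomputable def t19 : ℕ := 0x20302818100800
noncomputable def t20 : ℕ := 0x28182030100800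
noncomputable def t21 : ℕ := 0x18302028100800
noncomputable def t22 : ℕ := 0x18302028100800
noncomputable def t23 : ℕ := 0x28182030100800
noncomputable def t24 : ℕ := 0x28301820100800
noncomputable def t25 : ℕ := 0x28302008101800
noncomputable def t26 : ℕ := 0x28302018081000
noncomputable def t27 : ℕ := 0x28302018000810
noncomputable def t28 : ℕ := 0x30282018100800
noncomputable def tc0t22 : ℕ := 0x6860233034501040452034901080
noncomputable def tc0t23 : ℕ := 0x72e042c022b0105052a042901080
noncomputable def tc0t24 : ℕ := 0x23b057c063d0106046a036101080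
noncomputable def tc0t25 : ℕ := 0x5760624055d02220103038901080
noncomputable def tc0t26 : ℕ := 0x5a6061c059d04930219010201080
noncomputable def tc0t27 : ℕ := 0x5c6061405bd04b303aa021001010
noncomputable def tc0d : ℕ := 0xc300bb00b300ca00d100d800000
noncomputable def tc1t22 : ℕ := 0x56d022a033c0103034101080
noncomputable def tc1t23 : ℕ := 0x625042302220104042101080
noncomputable def tc1t24 : ℕ := 0x232046305340105035101080
noncomputable def tc1t25 : ℕ := 0x45d051b044c0219010201080
noncomputable def tc1t26 : ℕ := 0x4850513047c0372021001010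
noncomputable def tc1d : ℕ := 0xc200ba00b200c900d000000
noncomputable def tc2t22 : ℕ := 0x1d4012101b3008200880
noncomputable def tc2t23 : ℕ := 0x35c021a0119008300880
noncomputable def tc2t24 : ℕ := 0x12901ca02cb008400880
noncomputable def tc2t25 : ℕ := 0x1c4021201bb011000810
noncomputable def tc2d : ℕ := 0xc100b900b100c800000
noncomputable def tc3t22 : ℕ := 0xa100eb004200480
noncomputable def tc3t23 : ℕ := 0x11a0099004300480
noncomputable def tc3t24 : ℕ := 0x11200f3009000410
noncomputable def tc3d : ℕ := 0xb900b100c000000
noncomputable def tc4t22 : ℕ := 0x4c007200210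
noncomputable def tc4t23 : ℕ := 0x89004800220
noncomputable def tc4d : ℕ := 0x5c005800000
noncomputable def mc0c : ℕ := 0x18282010300800
noncomputable def mc0p : ℕ := 0x2000000
noncomputable def mc0l : ℕ := 0x6080703010000
noncomputable def mc0i : ℕ := 0x7090602000100
noncomputable def mc0q : ℕ := 0x2050406030100
noncomputable def mc1c : ℕ := 0x282030081810
noncomputable def mc1p : ℕ := 0x420000
noncomputable def mc1l : ℕ := 0xc0b0d0b0a00
noncomputable def mc1i : ℕ := 0xd0a0c0a0b00
noncomputable def mc1q : ℕ := 0x3050401000200
noncomputable def mc2c : ℕ := 0x1830282008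
noncomputable def mc2p : ℕ := 0x21000
noncomputable def mc2l : ℕ := 0xf0e0f0e00
noncomputable def mc2i : ℕ := 0xe0f0e0f00
noncomputable def mc2q : ℕ := 0x3020104000000
noncomputable def mc3c : ℕ := 0x28301820
noncomputable def mc3p : ℕ := 0x0
noncomputable def mc3l : ℕ := 0x13111000
noncomputable def mc3i : ℕ := 0x12101100
noncomputable def mc3q : ℕ := 0x2030001000000
noncomputable def mc4c : ℕ := 0x283018
noncomputable def mc4p : ℕ := 0x0
noncomputable def mc4l : ℕ := 0x151400
noncomputable def mc4i : ℕ := 0x141500
noncomputable def mc4q : ℕ := 0x1020000000000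

end Cfsg.Agent.CG.A7
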