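import Cfsg.Agent.Lib.Grp.A7.D0

set_option autoImplicit false
set_option maxRecDepth 100000
set_option Elab.async false

namespace Cfsg.Agent.CG.A7

noncomputable def tabs : List ℕ := [t0,t1,t2,t3,t4,t5,t6,t7,t8,t9,t10,t11,t12,t13,t14,t15,t16,t17,t18,t19,t20,t21,t22,t23,t24,t25,t26,t27]
noncomputable abbrev app : ℕ → ℕ → ℕ := appT tabs t28 0xff
noncomputable def slpL : List (Bool × List ℕ) := [(false,[]),
  (false,[]),
  (false,[]),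
  (false,[]),
  (false,[1,3,3,3,3,0,0]),
  (true,[4]),
  (false,[1,2,2,1,2,1,3]),
  (true,[6]),
  (false,[7,0,4,4,7,0,6]),
  (true,[8]),
  (false,[1,4,8,5,9,5,8,8,3]),
  (true,[10]),
  (false,[2,9,0,2,6,4,7,5,3]),
  (true,[12]),
  (false,[10,10,13,3,9,7,4,2,9,4,8]),
  (true,[14]),
  (false,[15,15,0,7,3,0,2,5,6,8,1,2]),
  (true,[16]),
  (false,[14,10,10,13,1,4,1,1,3,5,0,2,5]),
  (true,[18]),
  (false,[18,14,14,10,6,9,1,7,1,8,1,1,9]),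
  (true,[20]),
  (false,[21]),
  (true,[22]),
  (false,[16,20]),
  (false,[15,15,16]),
  (false,[11,15,15,17,21]),
  (false,[3,11,15,15,17,21])]
noncomputable def slp (a : ℕ) : Bool × List ℕ := nth slpL (false, []) a
noncomputable def invL : List ℕ := [1,0,3,2,5,4,7,6,9,8,11,10,13,12,15,14,17,16,19,18,21,20,23,22,24,25,26,27]
noncomputable def inv (a : ℕ) : ℕ := nth invL 28 a
noncomputable def bs : List ℕ := [0,16,8,32,24]
noncomputable def mc0 : Lvl := ⟨0, [0,1,2,3,6,7,8,9], 7,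
  fun i => look 0xff mc0c (Nat.mul 8 i), fun i => look 0xf mc0p (Nat.mul 4 i),
  fun i => look 255 mc0l (Nat.mul 8 i), fun i => look 255 mc0i (Nat.mul 8 i), fun x => look 0xff mc0q x, 2⟩
noncomputable def mc1 : Lvl := ⟨16, [10,11,12,13], 6,
  fun i => look 0xff mc1c (Nat.mul 8 i), fun i => look 0xf mc1p (Nat.mul 4 i),
  fun i => look 255 mc1l (Nat.mul 8 i), fun i => look 255 mc1i (Nat.mul 8 i), fun x => look 0xff mc1q x, 3⟩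
noncomputable def mc2 : Lvl := ⟨8, [14,15], 5,
  fun i => look 0xff mc2c (Nat.mul 8 i), fun i => look 0xf mc2p (Nat.mul 4 i),
  fun i => look 255 mc2l (Nat.mul 8 i), fun i => look 255 mc2i (Nat.mul 8 i), fun x => look 0xff mc2q x, 2⟩
noncomputable def mc3 : Lvl := ⟨32, [16,17,18,19], 4,
  fun i => look 0xff mc3c (Nat.mul 8 i), fun i => look 0xf mc3p (Nat.mul 4 i),
  fun i => look 255 mc3l (Nat.mul 8 i), fun i => look 255 mc3i (Nat.mul 8 i), fun x => look 0xff mc3q x, 1⟩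
noncomputable def mc4 : Lvl := ⟨24, [20,21], 3,
  fun i => look 0xff mc4c (Nat.mul 8 i), fun i => look 0xf mc4p (Nat.mul 4 i),
  fun i => look 255 mc4l (Nat.mul 8 i), fun i => look 255 mc4i (Nat.mul 8 i), fun x => look 0xff mc4q x, 1⟩
noncomputable def mc : List Lvl := [mc0, mc1, mc2, mc3, mc4]
noncomputable def tcR : List (List ℕ) := [[22,23],
  [23,22],
  [22,22,22],
  [24,24],
  [24,22,24,22,24,22],
  [25,25],
  [25,22,25,22,25,22],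
  [25,24,25,24,25,24],
  [25,24,22,24,25,23,24,23],
  [26,26],
  [26,22,26,22],
  [26,24,26,24],
  [26,25,26,25,26,25],
  [27,27],
  [27,22,27,22],
  [27,24,27,24],
  [27,25,27,25],
  [27,26,27,26,27,26]]
noncomputable def tc0T : List ℕ := [0,0,0,0,0,0,0,0,0,0,0,0,0,0,0,0,0,0,0,0,0,0,tc0t22,tc0t23,tc0t24,tc0t25,tc0t26,tc0t27]
noncomputable def tc0r : Tr Rule := (.node (.node (.node (.node (.node (.leaf ⟨27,[27],13,1⟩) (.leaf ⟨26,[25,26,25,26,25],12,4⟩)) (.leaf ⟨22,[26,22,26],10,3⟩)) (.node (.node (.leaf ⟨22,[23],0,0⟩) (.leaf ⟨27,[25,27,25],16,2⟩)) (.leaf ⟨25,[24,25,24,25,24],7,4⟩))) (.node (.node (.node (.leaf ⟨25,[25],5,1⟩) (.leaf ⟨26,[24,26,24],11,2⟩)) (.leaf ⟨24,[27,24,27],15,3⟩)) (.node (.node (.leaf ⟨22,[22,22],2,2⟩) (.leaf ⟨27,[24,27,24],15,2⟩)) (.leaf ⟨22,[24,25,23,24,23,25,24],8,2⟩)))) (.node (.node (.node (.node (.leaf ⟨26,[26],9,1⟩)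 (.leaf ⟨26,[22,26,22],10,2⟩)) (.leaf ⟨25,[22,25,22,25,22],6,4⟩)) (.node (.node (.leaf ⟨24,[24],3,1⟩) (.leaf ⟨27,[22,27,22],14,2⟩)) (.leaf ⟨24,[23,25,24,22,24,25,23],8,6⟩))) (.node (.node (.node (.leaf ⟨23,[22],0,1⟩) (.leaf ⟨27,[26,27,26,27,26],17,4⟩)) (.leaf ⟨24,[26,24,26],11,3⟩)) (.node (.leaf ⟨22,[27,22,27],14,3⟩) (.leaf ⟨25,[27,25,27],16,3⟩)))))
noncomputable def tc0 : TCL := ⟨[22,23,24,25,26,27], [22,23,24,25,26], 7, 16, 0x7f, 7, 0x1f,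
  fun a x => look 0xffff (nth tc0T 0 a) x, fun x => look 0xffff tc0d x, tc0r⟩
noncomputable def tc1T : List ℕ := [0,0,0,0,0,0,0,0,0,0,0,0,0,0,0,0,0,0,0,0,0,0,tc1t22,tc1t23,tc1t24,tc1t25,tc1t26]
noncomputable def tc1r : Tr Rule := (.node (.node (.node (.node (.leaf ⟨26,[26],9,1⟩) (.leaf ⟨24,[26,24,26],11,3⟩)) (.node (.leaf ⟨24,[24],3,1⟩) (.leaf ⟨26,[25,26,25,26,25],12,4⟩))) (.node (.node (.leaf ⟨23,[22],0,1⟩) (.leaf ⟨24,[23,25,24,22,24,25,23],8,6⟩)) (.node (.leaf ⟨22,[26,22,26],10,3⟩) (.leaf ⟨26,[24,26,24],11,2⟩)))) (.node (.node (.node (.leaf ⟨25,[25],5,1⟩) (.leaf ⟨25,[24,25,24,25,24],7,4⟩)) (.node (.leaf ⟨22,[22,22],2,2⟩) (.leaf ⟨26,[22,26,22],10,2⟩))) (.node (.node (.leaf ⟨22,[23],0,0⟩) (.leaf ⟨22,[24,25,23,24,23,25,24],8,2⟩)) (.leaf ⟨25,[22,25,22,25,22],6,4⟩))))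
noncomputable def tc1 : TCL := ⟨[22,23,24,25,26], [22,23,24,25], 6, 16, 0x7f, 7, 0x1f,
  fun a x => look 0xffff (nth tc1T 0 a) x, fun x => look 0xffff tc1d x, tc1r⟩
noncomputable def tc2T : List ℕ := [0,0,0,0,0,0,0,0,0,0,0,0,0,0,0,0,0,0,0,0,0,0,tc2t22,tc2t23,tc2t24,tc2t25]
noncomputable def tc2r : Tr Rule := (.node (.node (.node (.node (.leaf ⟨25,[25],5,1⟩) (.leaf ⟨22,[24,25,23,24,23,25,24],8,2⟩)) (.leaf ⟨22,[22,22],2,2⟩)) (.node (.leaf ⟨22,[23],0,0⟩) (.leaf ⟨25,[24,25,24,25,24],7,4⟩))) (.node (.node (.node (.leaf ⟨23,[22],0,1⟩) (.leaf ⟨23,[24,23,25,24,22,24,25],8,5⟩)) (.leaf ⟨25,[22,25,22,25,22],6,4⟩)) (.node (.leaf ⟨24,[24],3,1⟩) (.leaf ⟨24,[23,25,24,22,24,25,23],8,6⟩))))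
noncomputable def tc2 : TCL := ⟨[22,23,24,25], [22,23,24], 5, 16, 0x7f, 7, 0xf,
  fun a x => look 0xffff (nth tc2T 0 a) x, fun x => look 0xffff tc2d x, tc2r⟩
noncomputable def tc3T : List ℕ := [0,0,0,0,0,0,0,0,0,0,0,0,0,0,0,0,0,0,0,0,0,0,tc3t22,tc3t23,tc3t24]
noncomputable def tc3r : Tr Rule := (.node (.node (.node (.leaf ⟨24,[24],3,1⟩) (.leaf ⟨24,[22,24,22,24,22],4,4⟩)) (.leaf ⟨22,[23],0,0⟩)) (.node (.leaf ⟨23,[22],0,1⟩) (.leaf ⟨22,[22,22],2,2⟩)))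
noncomputable def tc3 : TCL := ⟨[22,23,24], [22,23], 4, 16, 0x7f, 7, 0x7,
  fun a x => look 0xffff (nth tc3T 0 a) x, fun x => look 0xffff tc3d x, tc3r⟩
noncomputable def tc4T : List ℕ := [0,0,0,0,0,0,0,0,0,0,0,0,0,0,0,0,0,0,0,0,0,0,tc4t22,tc4t23]
noncomputable def tc4r : Tr Rule := (.node (.node (.leaf ⟨23,[22],0,1⟩) (.leaf ⟨22,[22,22],2,2⟩)) (.leaf ⟨22,[23],0,0⟩))
noncomputable def tc4 : TCL := ⟨[22,23], [], 3, 16, 0x3f, 6, 0x7,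
  fun a x => look 0xffff (nth tc4T 0 a) x, fun x => look 0xffff tc4d x, tc4r⟩
noncomputable def tc : List TCL := [tc0, tc1, tc2, tc3, tc4]
noncomputable def inW : List (List ℕ) := [[26,27,25,26,25,23,24],
  [23,25,26,27,25,26,23,24,23],
  [26,27],
  [27,26]]
noncomputable def tcS : List ℕ := [22,23,24,25,26,27]

end Cfsg.Agent.CG.A7
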